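import Cfsg.Agent.Chars.Exceptional.PartitionMain

/-!
The nonexistence theorem.
-/

set_option autoImplicit false
set_option linter.unusedSectionVars false

namespace CfsgLib.Chars.Exceptional.Partition

open Cfsg CfsgLib.Chars CfsgLib.Chars.Exceptional
open scoped ComplexConjugate

universe u v

variable {G : Type u} [Group G] [Fintype G] {K N : Subgroup G} [Fintype N]

open Classical in
lemma sum_conjSet_real (h : FrobTI K N) (f : G → ℝ) (hf : ∀ g x : G, f (x * g * x⁻¹) = f g) :
    (∑ g : G, if g ∈ conjSet K then f g else 0) =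
      (Nat.card G : ℝ) / Nat.card N *
        ∑ y : N, if (y : G) ∈ (K : Set G) \ {1} then f y else 0 := by
  have hi : (Nat.card G : ℝ) / Nat.card N = (N.index : ℝ) := by
    rw [← N.card_mul_index, Nat.cast_mul, mul_div_cancel_left₀]
    exact Nat.cast_ne_zero.mpr Nat.card_pos.ne'
  rw [hi]
  apply Complex.ofReal_injective
  have := sum_conjSet h (f := fun g => ((f g : ℝ) : ℂ)) (fun g x => by simp [hf g x])
  push_cast [apply_ite (Complex.ofReal)]
  exact this

open Classical in
lemma card_kernel_ne_one (h : FrobTI K N) :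
    (Finset.univ.filter fun y : N => (y : G) ∈ (K : Set G) \ {1}).card + 1 =
      Nat.card (K.subgroupOf N) := by
  rw [Nat.card_eq_fintype_card, Fintype.card_subtype]
  have : (Finset.univ.filter fun y : N => y ∈ K.subgroupOf N) =
      insert 1 (Finset.univ.filter fun y : N => (y : G) ∈ (K : Set G) \ {1}) := by
    ext y
    simp only [Finset.mem_filter, Finset.mem_univ, true_and, Finset.mem_insert,
      Subgroup.mem_subgroupOf, Set.mem_sdiff, SetLike.mem_coe, Set.mem_singleton_iff]
    by_cases hy : y = 1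
    · simp [hy]
    · simp [hy]
  rw [this, Finset.card_insert_of_notMem (by simp)]

open Classical in
/-- Counting the zeros of a foreign exceptional character on a kernel. -/
theorem zeros_bound {K' N' : Subgroup G} [Fintype N'] (h : FrobTI K N) (h' : FrobTI K' N')
    (hodd : Odd (Nat.card G)) (hd : Disjoint (conjSet K) (conjSet K'))
    (hne' : commutator (K'.subgroupOf N') ≠ ⊤) (hlt : 1 < (K'.subgroupOf N').index)
    {θ : IrrCharacter (K.subgroupOf N)} (hθ : θ ∈ lins K N) {μ : IrrCharacter G}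
    (hμ : Exc θ μ) :
    (Finset.univ.filter fun y : N' =>
        (y : G) ∈ (K' : Set G) \ {1} ∧ (μ : G → ℂ) y = 0).card *
        ((commutator (K'.subgroupOf N')).index - 1) ≤
      Nat.card N' * ((oddSet θ μ).filter fun χ =>
        ∃ φ : IrrCharacter (K'.subgroupOf N'), φ ≠ oneChar _ ∧ Exc φ χ).card := by
  obtain ⟨hθ1, hθl⟩ := mem_lins.mp hθ
  obtain ⟨a1, a2, -, -⟩ := exc_iff h hodd hθ1 hμ
  have hμc : Exc θ (conjChar μ) := by
    unfold Exc at hμ ⊢
    rw [conjChar_conjChar]
    exact hμ.symm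
  set Z := Finset.univ.filter fun y : N' =>
    (y : G) ∈ (K' : Set G) \ {1} ∧ (μ : G → ℂ) y = 0 with hZ
  set O := (oddSet θ μ).filter fun χ =>
    ∃ φ : IrrCharacter (K'.subgroupOf N'), φ ≠ oneChar _ ∧ Exc φ χ with hO
  have hcardN : Nat.card N' = Nat.card (K'.subgroupOf N') * (K'.subgroupOf N').index :=
    (Subgroup.card_mul_index _).symm
  -- membership in `O`
  have hmem : ∀ φ : IrrCharacter (K'.subgroupOf N'), φ ≠ oneChar _ → ∀ χ, Exc φ χ →
      (coeff φ μ : ZMod 2) = 0 → χ ∈ O := by
    intro φ hφ χ hχ h0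
    have hp := parity h h' hodd hd hθ1 hφ hμ hχ
    rw [h0, zero_add, ZMod.intCast_eq_one_iff_odd] at hp
    refine Finset.mem_filter.mpr ⟨Finset.mem_filter.mpr ⟨Finset.mem_univ _,
      (exc_iff h' hodd hφ hχ).2.1, fun e => exc_disjoint h h' hodd hd hθ1 hφ hμ (e ▸ hχ),
      fun e => exc_disjoint h h' hodd hd hθ1 hφ hμc (e ▸ hχ), hp⟩, φ, hφ, hχ⟩
  have hZK : Z.card ≤ Nat.card (K'.subgroupOf N') := by
    rw [← card_kernel_ne_one h']
    refine le_trans (Finset.card_le_card fun y hy => ?_) (Nat.le_succ _)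
    simp only [hZ, Finset.mem_filter] at hy ⊢
    exact ⟨hy.1, hy.2.1⟩
  have hn := card_linImg h'
  obtain ⟨φ₀, hφ₀⟩ : (lins K' N').Nonempty := by
    rw [← Finset.card_pos]
    have := card_lins (K := K') (N := N')
    have h0 : (linImg K' N').card * (K'.subgroupOf N').index ≠ 0 :=
      Nat.mul_ne_zero (by have := two_le_linImg h' hodd hne'; omega) (by omega)
    omega
  have hunif := fun (φ φ' : IrrCharacter (K'.subgroupOf N')) (a : φ ≠ oneChar _)
    (b : φ' ≠ oneChar _) (c : (φ : K'.subgroupOf N' → ℂ) 1 = (φ' : K'.subgroupOf N' → ℂ) 1) =>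
      coeff_uniform h h' hodd hd hθ1 hμ a b c
  by_cases hc : (coeff φ₀ μ : ZMod 2) = 0
  · -- the linear multiplicities are even
    obtain ⟨ε, hε, m, hinj, heq⟩ := lin_family h' ⟨φ₀, hφ₀⟩
    have hle : (linImg K' N').card ≤ O.card := by
      refine Finset.card_le_card_of_injOn m (fun z hz => ?_) hinj
      obtain ⟨φ, hφ, rfl⟩ := Finset.mem_image.mp (Finset.mem_coe.mp hz)
      refine hmem φ (mem_lins.mp hφ).1 _ (family_exc h' hodd hε hinj heq hφ) ?_
      rw [hunif φ φ₀ (mem_lins.mp hφ).1 (mem_lins.mp hφ₀).1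
        ((mem_lins.mp hφ).2.trans (mem_lins.mp hφ₀).2.symm), hc]
    rw [← hn, Nat.add_sub_cancel, hcardN]
    calc Z.card * ((linImg K' N').card * (K'.subgroupOf N').index)
        ≤ Nat.card (K'.subgroupOf N') * ((linImg K' N').card * (K'.subgroupOf N').index) :=
          Nat.mul_le_mul_right _ hZK
      _ = Nat.card (K'.subgroupOf N') * (K'.subgroupOf N').index * (linImg K' N').card := by ring
      _ ≤ _ := Nat.mul_le_mul_left _ hle
  by_cases hall : ∀ φ : IrrCharacter (K'.subgroupOf N'), φ ≠ oneChar _ → Odd (coeff φ μ)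
  · -- no zeros at all
    have : Z = ∅ := by
      rw [Finset.eq_empty_iff_forall_notMem]
      intro y hy
      simp only [hZ, Finset.mem_filter, Finset.mem_univ, true_and, Set.mem_sdiff,
        SetLike.mem_coe, Set.mem_singleton_iff] at hy
      exact ne_zero_of_all_odd h' hodd μ hall (y := ⟨y, hy.1.1⟩)
        (fun e => hy.1.2 (congrArg (fun t : K'.subgroupOf N' => ((t : N') : G)) e)) hy.2
    rw [this, Finset.card_empty, zero_mul]
    exact Nat.zero_le _
  -- zeros inside the commutator subgroup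
  push Not at hall
  obtain ⟨φ, hφ, hev⟩ := hall
  have hev0 : (coeff φ μ : ZMod 2) = 0 :=
    ZMod.intCast_eq_zero_iff_even.mpr (Int.not_odd_iff_even.mp hev)
  obtain ⟨ν, b1, -, -, b4⟩ := exc_diff h' hodd hφ
  have hν : Exc φ ν := by
    intro e
    have := b4 ν
    rw [e, sub_self, if_pos rfl, if_neg b1.symm] at this
    omega
  have hνc : Exc φ (conjChar ν) := by
    unfold Exc at hν ⊢
    rw [conjChar_conjChar]
    exact hν.symm
  have htwo : 2 ≤ O.card :=
    Finset.one_lt_card.mpr ⟨ν, hmem φ hφ ν hν hev0, conjChar ν, hmem φ hφ _ hνc hev0, b1.symm⟩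
  have hsub : Z.card ≤ Nat.card (commutator (K'.subgroupOf N')) := by
    have e : Nat.card (commutator (K'.subgroupOf N')) =
        ((Finset.univ.filter fun k : K'.subgroupOf N' =>
          k ∈ commutator (K'.subgroupOf N')).image Subtype.val).card := by
      rw [Finset.card_image_of_injective _ Subtype.val_injective, Nat.card_eq_fintype_card,
        Fintype.card_subtype]
    rw [e]
    refine Finset.card_le_card fun y hy => ?_
    simp only [hZ, Finset.mem_filter, Finset.mem_univ, true_and, Set.mem_sdiff,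
      SetLike.mem_coe, Set.mem_singleton_iff] at hy
    refine Finset.mem_image.mpr ⟨⟨y, hy.1.1⟩, Finset.mem_filter.mpr ⟨Finset.mem_univ _, ?_⟩, rfl⟩
    by_contra hyc
    have hv := value_off_commutator h' μ (coeff φ₀ μ)
      (fun ψ hψ h1 => hunif ψ φ₀ hψ (mem_lins.mp hφ₀).1 (h1.trans (mem_lins.mp hφ₀).2.symm))
      hunif (y := ⟨y, hy.1.1⟩) hyc
    rw [show ((((⟨y, hy.1.1⟩ : K'.subgroupOf N') : N')) : G) = (y : G) from rfl, hy.2] at hv
    refine hc ?_
    have : coeff φ₀ μ = 0 := by exact_mod_cast (neg_eq_zero.mp hv.symm)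
    rw [this]; simp
  have hci := Subgroup.card_mul_index (commutator (K'.subgroupOf N'))
  calc Z.card * ((commutator (K'.subgroupOf N')).index - 1)
      ≤ Nat.card (commutator (K'.subgroupOf N')) * (commutator (K'.subgroupOf N')).index :=
        Nat.mul_le_mul hsub (Nat.sub_le _ _)
    _ = Nat.card (K'.subgroupOf N') := hci
    _ ≤ Nat.card N' := by rw [hcardN]; exact Nat.le_mul_of_pos_right _ (by omega)
    _ ≤ Nat.card N' * O.card := Nat.le_mul_of_pos_right _ (by omega)

open Classical in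
/-- A group of odd order is not covered by the conjugates of non-perfect kernels of coprime orders
whose normalisers are Frobenius groups. -/
theorem no_partition {G : Type u} [Group G] [Finite G] (hodd : Odd (Nat.card G)) {ι : Type v}
    [Finite ι] [Nonempty ι] (L H : ι → Subgroup G) (hF : ∀ i, FrobTI (H i) (L i))
    (hlt : ∀ i, H i < L i) (hper : ∀ i, commutator (H i) ≠ ⊤)
    (hcop : ∀ i j, i ≠ j → Nat.Coprime (Nat.card (H i)) (Nat.card (H j)))
    (hcover : ∀ g : G, g ≠ 1 → ∃ i, ∃ x : G, x * g * x⁻¹ ∈ H i) : False := by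
  haveI := Fintype.ofFinite G
  haveI := Fintype.ofFinite ι
  haveI : ∀ i, Fintype (L i) := fun i => Fintype.ofFinite _
  set e : ι → ℕ := fun i => ((H i).subgroupOf (L i)).index with he
  set a : ι → ℕ := fun i => (commutator ((H i).subgroupOf (L i))).index with ha
  have hper' : ∀ i, commutator ((H i).subgroupOf (L i)) ≠ ⊤ := fun i e' => hper i (by
    have := congrArg (Subgroup.map (Subgroup.subgroupOfEquivOfLe (hF i).le).toMonoidHom) e'
    rw [commutator_def, Subgroup.map_commutator, ← MonoidHom.range_eq_map,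
      MonoidHom.range_eq_top.mpr (MulEquiv.surjective _)] at this
    exact this)
  have hoddL : ∀ i, Odd (Nat.card (L i)) := fun i =>
    hodd.of_dvd_nat (Subgroup.card_subgroup_dvd_card _)
  have he3 : ∀ i, 3 ≤ e i := fun i => by
    have h1 : e i ≠ 1 := fun h1 => absurd
      (Subgroup.subgroupOf_eq_top.mp (Subgroup.index_eq_one.mp h1)) (not_le_of_gt (hlt i))
    have h2 : Odd (e i) := (hoddL i).of_dvd_nat (Subgroup.index_dvd_card _)
    obtain ⟨r, hr⟩ := h2
    omega
  have hado : ∀ i, Odd (a i) := fun i =>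
    (hoddL i).of_dvd_nat ((Subgroup.index_dvd_card _).trans (Subgroup.card_subgroup_dvd_card _))
  have hadvd : ∀ i, a i ∣ Nat.card (H i) := fun i => by
    rw [← (hF i).card_subgroupOf]; exact Subgroup.index_dvd_card _
  have hd : ∀ i j, i ≠ j → Disjoint (conjSet (H i)) (conjSet (H j)) := fun i j hij => by
    rw [Set.disjoint_left]
    rintro g ⟨hg1, x, hx⟩ ⟨-, y, hy⟩
    apply hg1
    rw [← orderOf_eq_one_iff]
    refine Nat.eq_one_of_dvd_coprimes (hcop i j hij) ?_ ?_
    · rw [← (MulAut.conj x⁻¹).orderOf_eq g]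
      exact Subgroup.orderOf_dvd_natCard _ (by simpa using hx)
    · rw [← (MulAut.conj y⁻¹).orderOf_eq g]
      exact Subgroup.orderOf_dvd_natCard _ (by simpa using hy)
  obtain ⟨i, -, himin⟩ := Finset.exists_min_image Finset.univ a Finset.univ_nonempty
  set n := (linImg (H i) (L i)).card with hn
  have hn2 : 2 ≤ n := two_le_linImg (hF i) hodd (hper' i)
  have hna : n * e i + 1 = a i := card_linImg (hF i)
  obtain ⟨θ, hθ⟩ : (lins (H i) (L i)).Nonempty := by
    rw [← Finset.card_pos]
    have hcl := card_lins (K := H i) (N := L i)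
    have : n * e i ≠ 0 := Nat.mul_ne_zero (by omega) (by have := he3 i; omega)
    have hcl' : (lins (H i) (L i)).card + 1 = a i := hcl
    omega
  obtain ⟨ε, hε, m, hinj, heq⟩ := lin_family (hF i) ⟨θ, hθ⟩
  set μ := m (indFun ((H i).subgroupOf (L i)) (θ : (H i).subgroupOf (L i) → ℂ)) with hμdef
  have hμ : Exc θ μ := family_exc (hF i) hodd hε hinj heq hθ
  set O : ι → Finset (IrrCharacter G) := fun j => (oddSet θ μ).filter fun χ =>
    ∃ φ : IrrCharacter ((H j).subgroupOf (L j)), φ ≠ oneChar _ ∧ Exc φ χ with hO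
  have hOsum : ∑ j ∈ Finset.univ.erase i, (O j).card + 1 ≤ e i := by
    refine le_trans ?_ (oddSet_card (hF i) hodd hθ hμ)
    rw [← Finset.card_biUnion]
    · exact Nat.succ_le_succ (Finset.card_le_card (Finset.biUnion_subset.mpr
        fun j _ => Finset.filter_subset _ _))
    · intro j _ k _ hjk
      rw [Function.onFun, Finset.disjoint_left]
      intro χ hj hk
      obtain ⟨φ, hφ, hφχ⟩ := (Finset.mem_filter.mp hj).2
      obtain ⟨ψ, hψ, hψχ⟩ := (Finset.mem_filter.mp hk).2
      exact exc_disjoint (hF j) (hF k) hodd (hd j k hjk) hφ hψ hφχ hψχ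
  set Z : (j : ι) → Finset (L j) := fun j => Finset.univ.filter fun y : L j =>
    (y : G) ∈ (H j : Set G) \ {1} ∧ (μ : G → ℂ) y = 0 with hZ
  -- the global inequality
  set g : ℝ := (Nat.card G : ℝ) with hg
  have hgpos : 0 < g := Nat.cast_pos.mpr Nat.card_pos
  set C : Finset (L i) :=
    Finset.univ.filter fun y : L i => (y : G) ∈ (H i : Set G) \ {1} with hC
  have hglobal : rho (H i) (L i) (μ : G → ℂ) ≤
      (C.card : ℝ) / Nat.card (L i) +
        ∑ j ∈ Finset.univ.erase i, ((Z j).card : ℝ) / Nat.card (L j) := by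
    set S : Finset G := Finset.univ.filter fun x =>
      x ≠ 1 ∧ x ∉ conjSet (H i) ∧ (μ : G → ℂ) x ≠ 0 with hS
    have hclosed : ∀ x ∈ S, ∀ k : ℕ, k.Coprime (Nat.card G) → x ^ k ∈ S := by
      intro x hx k hk
      simp only [hS, Finset.mem_filter, Finset.mem_univ, true_and] at hx ⊢
      obtain ⟨l, hl⟩ : ∃ l : ℕ, x = (x ^ k) ^ l := by
        obtain ⟨l, hl⟩ := exists_pow_eq_self_of_coprime
          ((hk.coprime_dvd_right (orderOf_dvd_natCard x)))
        exact ⟨l, hl.symm⟩
      refine ⟨fun e' => hx.1 (by rw [hl, e', one_pow]), fun hm => hx.2.1 ⟨hx.1, ?_⟩,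
        fun e' => hx.2.2 (CfsgLib.Chars.GaloisSum.eq_zero_of_char_pow (isCharacter_coe μ) hk e')⟩
      obtain ⟨-, y, hy⟩ := hm
      refine ⟨y, ?_⟩
      rw [hl]
      have hcp := conj_pow (a := y⁻¹) (b := x ^ k) (i := l)
      rw [inv_inv] at hcp
      rw [← hcp]
      exact Subgroup.pow_mem _ hy l
    have h1 := CfsgLib.Chars.GaloisSum.card_le_sum_norm_sq_char (isCharacter_coe μ) S hclosed
      (fun x hx => (Finset.mem_filter.mp hx).2.2.2)
    have h2 := CfsgLib.Chars.GaloisSum.sum_norm_sq_of_isIrrCharacter μ.2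
    have hμ1 : (1 : ℝ) ≤ ‖(μ : G → ℂ) 1‖ ^ 2 := by
      rw [← coe_charDegree, Complex.norm_natCast]
      exact one_le_pow₀ (by exact_mod_cast charDegree_pos μ)
    have h3 : ∀ x : G, (if x ∈ S then (1 : ℝ) else 0) ≥ 1 - (if x = 1 then 1 else 0) -
        (if x ∈ conjSet (H i) then 1 else 0) - ∑ j ∈ Finset.univ.erase i,
          (if x ∈ conjSet (H j) then (if (μ : G → ℂ) x = 0 then (1 : ℝ) else 0) else 0) := by
      intro x
      have hnn : ∀ j ∈ Finset.univ.erase i, (0 : ℝ) ≤
          (if x ∈ conjSet (H j) then (if (μ : G → ℂ) x = 0 then (1 : ℝ) else 0) else 0) :=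
        fun j _ => by positivity
      have hs := Finset.sum_nonneg hnn
      have hS0 : (0 : ℝ) ≤ (if x ∈ S then (1 : ℝ) else 0) := by positivity
      by_cases hx1 : x = 1
      · have hci : x ∉ conjSet (H i) := fun hm => hm.1 hx1
        rw [if_pos hx1, if_neg hci]; linarith
      rw [if_neg hx1]
      by_cases hxi : x ∈ conjSet (H i)
      · rw [if_pos hxi]; linarith
      rw [if_neg hxi]
      by_cases hx0 : (μ : G → ℂ) x = 0
      · obtain ⟨j, y, hy⟩ := hcover x hx1
        have hxj : x ∈ conjSet (H j) := ⟨hx1, y⁻¹, by rwa [inv_inv]⟩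
        have hji : j ∈ Finset.univ.erase i :=
          Finset.mem_erase.mpr ⟨fun e' => hxi (e' ▸ hxj), Finset.mem_univ _⟩
        have := Finset.single_le_sum hnn hji
        simp only [hxj, hx0, if_true] at this ⊢
        linarith
      · rw [if_pos (by simp [hS, hx1, hxi, hx0])]; linarith
    have h4 : ∀ x : G, ((if x = 1 then ‖(μ : G → ℂ) x‖ ^ 2 else 0) +
        (if x ∈ conjSet (H i) then ‖(μ : G → ℂ) x‖ ^ 2 else 0) +
        (if x ∈ S then ‖(μ : G → ℂ) x‖ ^ 2 else 0)) ≤ ‖(μ : G → ℂ) x‖ ^ 2 := by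
      intro x
      have := sq_nonneg ‖(μ : G → ℂ) x‖
      by_cases hx1 : x = 1
      · rw [if_pos hx1, if_neg (fun hm => hm.1 hx1), if_neg (by simp [hS, hx1])]; linarith
      by_cases hxi : x ∈ conjSet (H i)
      · rw [if_neg hx1, if_pos hxi, if_neg (by simp [hS, hxi])]; linarith
      rw [if_neg hx1, if_neg hxi]
      split_ifs <;> linarith
    have h5 := Finset.sum_le_sum (fun x (_ : x ∈ (Finset.univ : Finset G)) => h4 x)
    have h6 := Finset.sum_le_sum (fun x (_ : x ∈ (Finset.univ : Finset G)) => h3 x)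
    rw [h2] at h5
    simp only [Finset.sum_add_distrib, Finset.sum_ite_eq', Finset.mem_univ, if_true,
      Finset.sum_sub_distrib, Finset.sum_const, Finset.card_univ, nsmul_eq_mul, mul_one,
      Finset.sum_ite_mem, Finset.univ_inter, ← Nat.card_eq_fintype_card] at h5 h6
    rw [Finset.sum_comm] at h6
    have hcl : ∀ x y : G, (μ : G → ℂ) (y * x * y⁻¹) = (μ : G → ℂ) x := isClassFunction_coe μ
    have c1 := sum_conjSet_real (hF i) (fun x => ‖(μ : G → ℂ) x‖ ^ 2)
      (fun x y => by simp only [hcl])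
    have c2 := sum_conjSet_real (hF i) (fun _ : G => (1 : ℝ)) (fun _ _ => rfl)
    have c3 := fun j => sum_conjSet_real (hF j)
      (fun x : G => if (μ : G → ℂ) x = 0 then (1 : ℝ) else 0) (fun x y => by simp only [hcl])
    have c3' : ∀ j, (∑ x : G, if x ∈ conjSet (H j) then
        (if (μ : G → ℂ) x = 0 then (1 : ℝ) else 0) else 0) =
        g * (((Z j).card : ℝ) / Nat.card (L j)) := by
      intro j
      rw [c3 j, Finset.sum_congr rfl (fun y _ => (ite_and _ _ _ _).symm), Finset.sum_boole]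
      simp only [hZ, hg]
      ring
    rw [c1] at h5
    rw [c2, Finset.sum_boole, Finset.sum_congr rfl (fun j _ => c3' j), ← Finset.mul_sum] at h6
    have hr : g / Nat.card (L i) * (∑ y : L i, if (y : G) ∈ (H i : Set G) \ {1} then
        ‖(μ : G → ℂ) y‖ ^ 2 else 0) = g * rho (H i) (L i) (μ : G → ℂ) := by
      rw [rho]; ring
    rw [← hg, hr] at h5
    rw [← hg] at h6
    have h7 : g * rho (H i) (L i) (μ : G → ℂ) ≤ g * ((C.card : ℝ) / Nat.card (L i) +
        ∑ j ∈ Finset.univ.erase i, ((Z j).card : ℝ) / Nat.card (L j)) := by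
      rw [mul_add]
      simp only [hC]
      rw [mul_div_assoc', div_mul_eq_mul_div] at *
      linarith
    exact le_of_mul_le_mul_left h7 hgpos
  -- the own kernel
  have hei : (0 : ℝ) < e i := Nat.cast_pos.mpr (by have := he3 i; omega)
  have hx : (C.card : ℝ) / Nat.card (L i) < 1 / e i := by
    rw [← Subgroup.card_mul_index ((H i).subgroupOf (L i)), Nat.cast_mul]
    have hk : (C.card : ℝ) + 1 = (Nat.card ((H i).subgroupOf (L i)) : ℝ) := by
      exact_mod_cast card_kernel_ne_one (hF i)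
    rw [div_lt_div_iff₀ (by rw [← hk]; positivity) hei, one_mul]
    nlinarith
  set B : ℕ := if n = 2 ∧ e i = 3 then 10 else n * e i + 2 with hB
  have hBj : ∀ j ∈ Finset.univ.erase i, B ≤ a j - 1 := by
    intro j hj
    have hji : j ≠ i := Finset.ne_of_mem_erase hj
    have hne : a j ≠ a i := fun e' => by
      have h1 : a i = 1 := Nat.eq_one_of_dvd_coprimes (hcop j i hji) (e' ▸ hadvd j) (hadvd i)
      have := he3 i
      have : n * e i ≠ 0 := Nat.mul_ne_zero (by omega) (by omega)
      omega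
    have hle := himin j (Finset.mem_univ _)
    obtain ⟨r, hr⟩ := hado i
    obtain ⟨s, hs⟩ := hado j
    by_cases hsp : n = 2 ∧ e i = 3
    · rw [hB, if_pos hsp]
      have h7 : a i = 7 := by rw [← hna, hsp.1, hsp.2]
      have h9 : a j ≠ 9 := by
        intro h9
        have hj1 : (linImg (H j) (L j)).card * e j + 1 = a j := card_linImg (hF j)
        have h8 : e j ∣ 8 := Dvd.intro_left _ (by omega : (linImg (H j) (L j)).card * e j = 8)
        have := Nat.le_of_dvd (by omega) h8
        have := he3 j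
        obtain ⟨t, ht⟩ : Odd (e j) := (hoddL j).of_dvd_nat (Subgroup.index_dvd_card _)
        interval_cases h : e j <;> omega
      omega
    · rw [hB, if_neg hsp]; omega
  have hz : (∑ j ∈ Finset.univ.erase i, ((Z j).card : ℝ) / Nat.card (L j)) * B + 1 ≤ e i := by
    rw [Finset.sum_mul]
    refine le_trans (add_le_add_left ?_ _) (show (∑ j ∈ Finset.univ.erase i,
      ((O j).card : ℝ)) + 1 ≤ e i by exact_mod_cast hOsum)
    refine Finset.sum_le_sum fun j hj => ?_
    have hji : i ≠ j := (Finset.ne_of_mem_erase hj).symm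
    have := (Nat.mul_le_mul_left _ (hBj j hj)).trans
      (zeros_bound (hF i) (hF j) hodd (hd i j hji) (hper' j)
        (lt_of_lt_of_le (by norm_num : 1 < 3) (he3 j)) hθ hμ)
    rw [div_mul_eq_mul_div, div_le_iff₀ (Nat.cast_pos.mpr Nat.card_pos),
      mul_comm ((O j).card : ℝ)]
    exact_mod_cast this
  set z : ℝ := ∑ j ∈ Finset.univ.erase i, ((Z j).card : ℝ) / Nat.card (L j) with hzdef
  have hz0 : 0 ≤ z := Finset.sum_nonneg fun j _ => div_nonneg (Nat.cast_nonneg _) (Nat.cast_nonneg _)
  have he3' : (3 : ℝ) ≤ e i := by exact_mod_cast he3 i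
  by_cases hn4 : 3 ≤ n
  · have hb := rho_many (hF i) hε hinj heq hθ
    rw [← hμdef, ← hn] at hb
    have hn' : (3 : ℝ) ≤ n := by exact_mod_cast hn4
    rw [hB, if_neg (by omega)] at hz
    push_cast at hz
    have hq : 1 / (n : ℝ) ≤ 1 / 3 := one_div_le_one_div_of_le (by norm_num) hn'
    have hq' : 1 / (e i : ℝ) ≤ 1 / 3 := one_div_le_one_div_of_le (by norm_num) he3'
    have hq2 : z * (3 * (e i : ℝ)) < e i := by
      have := mul_le_mul_of_nonneg_left (mul_le_mul_of_nonneg_right hn' hei.le) hz0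
      nlinarith
    have hq3 : z < 1 / 3 := by nlinarith
    linarith
  · have hn2' : n = 2 := by omega
    have hb : 1 / 2 + 1 / (4 * (e i : ℝ) + 2) ≤ rho (H i) (L i) (μ : G → ℂ) :=
      rho_two (hF i) hodd (mem_lins.mp hθ).1 (mem_lins.mp hθ).2 hμ
    by_cases he' : e i = 3
    · rw [hB, if_pos ⟨hn2', he'⟩, he'] at hz
      rw [he'] at hx hb
      push_cast at hz hx hb
      linarith
    · have h5 : (5 : ℝ) ≤ e i := by
        obtain ⟨t, ht⟩ : Odd (e i) := (hoddL i).of_dvd_nat (Subgroup.index_dvd_card _)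
        have := he3 i
        exact_mod_cast (show 5 ≤ e i by omega)
      rw [hB, if_neg (fun h => he' h.2), hn2'] at hz
      push_cast at hz
      generalize (e i : ℝ) = E at hz hx hb h5 hei
      have hz1 : z ≤ 1 / 2 - 1 / (E + 1) := by
        have e1 : (1 / 2 - 1 / (E + 1)) * (2 * E + 2) = E - 1 := by
          field_simp
          ring
        refine le_of_mul_le_mul_right ?_ (show (0 : ℝ) < 2 * E + 2 by positivity)
        rw [e1]
        linarith
      have h9 : 1 / E - 1 / (E + 1) ≤ 1 / (4 * E + 2) := by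
        rw [div_sub_div _ _ (by positivity) (by positivity),
          div_le_div_iff₀ (by positivity) (by positivity)]
        nlinarith
      linarith

end CfsgLib.Chars.Exceptional.Partition
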